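import Mathlib.RingTheory.HopfAlgebra.Basic
import Mathlib.RingTheory.Bialgebra.Hom
import Mathlib.RingTheory.Bialgebra.Convolution
import Mathlib.RingTheory.HopfAlgebra.Convolution
import Mathlib.RingTheory.Flat.FaithfullyFlat.Algebra
import Mathlib.RingTheory.RingHom.FaithfullyFlat
import Mathlib.RingTheory.TensorProduct.Maps
import Mathlib.RingTheory.Flat.EquationalCriterion
import Mathlib.Algebra.Module.FinitePresentation
import Mathlib.RingTheory.LocalRing.Module

/-!
Coinvariants of the kernel of a faithfully flat homomorphism, and retractions.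
-/

set_option autoImplicit false

noncomputable section

universe u

open TensorProduct WithConv

namespace CartExactLib

variable {R : Type u} [CommRing R] {A A' A'' : Type u} [CommRing A] [HopfAlgebra R A] [CommRing A'] [HopfAlgebra R A']
  [CommRing A''] [HopfAlgebra R A'']

/-- Points are invertible. -/
theorem conv_antipode {T : Type u} [CommRing T] [Algebra R T] (x : A →ₐ[R] T) :
    toConv (x.comp (HopfAlgebra.antipodeAlgHom R A)) * toConv x = 1 ∧
      toConv x * toConv (x.comp (HopfAlgebra.antipodeAlgHom R A)) = 1 := by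
  have hid : toConv (HopfAlgebra.antipodeAlgHom R A) * toConv (AlgHom.id R A) = 1 := by
    apply WithConv.ext
    apply AlgHom.toLinearMap_injective
    apply toConv_injective
    rw [AlgHom.toLinearMap_convMul, AlgHom.toLinearMap_convOne]
    exact LinearMap.antipode_mul_id
  have hid' : toConv (AlgHom.id R A) * toConv (HopfAlgebra.antipodeAlgHom R A) = 1 := by
    apply WithConv.ext
    apply AlgHom.toLinearMap_injective
    apply toConv_injective
    rw [AlgHom.toLinearMap_convMul, AlgHom.toLinearMap_convOne]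
    exact LinearMap.id_mul_antipode
  have h1 : toConv (x.comp (1 : WithConv (A →ₐ[R] A)).ofConv) = 1 := WithConv.ext (AlgHom.ext fun a => by
    show x ((1 : WithConv (A →ₐ[R] A)) a) = (1 : WithConv (A →ₐ[R] T)) a
    rw [AlgHom.convOne_apply, AlgHom.convOne_apply, AlgHom.commutes])
  constructor
  · rw [← h1, ← hid]
    exact WithConv.ext (by simpa only [AlgHom.comp_id] using (AlgHom.comp_convMul_distrib x
      (toConv (HopfAlgebra.antipodeAlgHom R A)) (toConv (AlgHom.id R A))).symm)
  · rw [← h1, ← hid']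
    exact WithConv.ext (by simpa only [AlgHom.comp_id] using (AlgHom.comp_convMul_distrib x
      (toConv (AlgHom.id R A)) (toConv (HopfAlgebra.antipodeAlgHom R A))).symm)

/-- Coinvariants come from the quotient. -/
theorem mem_range_of_coinv (f : A'' →ₐc[R] A) (hf : (f : A'' →ₐ[R] A).toRingHom.FaithfullyFlat) (g : A →ₐc[R] A')
    (hg : Function.Surjective g)
    (hker : RingHom.ker (g : A →ₐ[R] A') = Ideal.map (f : A'' →ₐ[R] A) (RingHom.ker (Bialgebra.counitAlgHom R A'')))
    {a : A} (ha : Algebra.TensorProduct.map (g : A →ₐ[R] A') (AlgHom.id R A) (Coalgebra.comul (R := R) a) =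
      (1 : A') ⊗ₜ[R] a) :
    ∃ b : A'', f b = a := by
  letI : Algebra A'' A := (f : A'' →ₐ[R] A).toRingHom.toAlgebra
  haveI : IsScalarTower R A'' A := IsScalarTower.of_algebraMap_eq fun r => ((f : A'' →ₐ[R] A).commutes r).symm
  haveI : Module.FaithfullyFlat A'' A := hf
  let inL : A →ₐ[R] A ⊗[A''] A := Algebra.TensorProduct.includeLeft
  let inR : A →ₐ[R] A ⊗[A''] A :=
    (Algebra.TensorProduct.includeRight : A →ₐ[A''] A ⊗[A''] A).restrictScalars R
  let res : WithConv (A →ₐ[R] A ⊗[A''] A) →* WithConv (A'' →ₐ[R] A ⊗[A''] A) :=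
    { toFun := fun e => toConv (e.ofConv.comp (f : A'' →ₐ[R] A))
      map_one' := WithConv.ext (AlgHom.ext fun b => by
        show (1 : WithConv (A →ₐ[R] A ⊗[A''] A)) (f b) = (1 : WithConv (A'' →ₐ[R] A ⊗[A''] A)) b
        rw [AlgHom.convOne_apply, AlgHom.convOne_apply]
        exact congrArg _ (CoalgHomClass.counit_comp_apply f b))
      map_mul' := fun e e' => WithConv.ext (AlgHom.convMul_comp_bialgHom_distrib e e' f) }
  let Θ : WithConv (A →ₐ[R] A ⊗[A''] A) := toConv inR * toConv (inL.comp (HopfAlgebra.antipodeAlgHom R A))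
  have hres : res (toConv inR) = res (toConv inL) := WithConv.ext (AlgHom.ext fun b =>
    ((Algebra.TensorProduct.includeRight : A →ₐ[A''] A ⊗[A''] A).commutes b).trans
      ((Algebra.TensorProduct.includeLeft : A →ₐ[A''] A ⊗[A''] A).commutes b).symm)
  have hΘ : res Θ = 1 := by rw [map_mul, hres, ← map_mul, (conv_antipode inL).2, map_one]
  have hkill : ∀ c, g c = 0 → Θ.ofConv c = 0 := fun c hc => by
    have hle : Ideal.map (f : A'' →ₐ[R] A) (RingHom.ker (Bialgebra.counitAlgHom R A'')) ≤ RingHom.ker Θ.ofConv :=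
      Ideal.map_le_iff_le_comap.2 fun b hb => by
        show (res Θ).ofConv b = 0
        rw [hΘ]
        show (1 : WithConv (A'' →ₐ[R] A ⊗[A''] A)) b = 0
        rw [AlgHom.convOne_apply, show Coalgebra.counit (R := R) b = 0 from hb, map_zero]
    exact hle (hker ▸ (show c ∈ RingHom.ker (g : A →ₐ[R] A') from hc))
  let θ : A' →ₐ[R] A ⊗[A''] A := AlgHom.liftOfSurjective (g : A →ₐ[R] A') hg Θ.ofConv hkill
  have hθ : ∀ c, θ (g c) = Θ.ofConv c := fun c =>
    AlgHom.congr_fun (AlgHom.liftOfSurjective_comp (g : A →ₐ[R] A') hg Θ.ofConv hkill) c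
  have h1 : (Θ * toConv inL).ofConv a = inL a := by
    show (Θ * toConv inL) a = inL a
    rw [AlgHom.convMul_apply]
    have e : ∀ z : A ⊗[R] A, Algebra.TensorProduct.lift Θ.ofConv inL (fun _ _ => Commute.all _ _) z =
        Algebra.TensorProduct.lift θ inL (fun _ _ => Commute.all _ _)
          (Algebra.TensorProduct.map (g : A →ₐ[R] A') (AlgHom.id R A) z) := fun z => by
      induction z using TensorProduct.induction_on with
      | zero => simp
      | add p q hp hq => simp only [map_add, hp, hq]
      | tmul p q => simp [hθ]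
    refine (e _).trans ?_
    rw [ha, Algebra.TensorProduct.lift_tmul, map_one, one_mul]
  rw [mul_assoc, (conv_antipode inL).1, mul_one] at h1
  have h2 : (1 : A) ⊗ₜ[A''] a = a ⊗ₜ[A''] (1 : A) := h1
  let S : Submodule A'' A := LinearMap.range (Algebra.linearMap A'' A)
  have h3 := congrArg (LinearMap.lTensor A S.mkQ) h2
  rw [LinearMap.lTensor_tmul, LinearMap.lTensor_tmul,
    show S.mkQ (1 : A) = 0 from (Submodule.Quotient.mk_eq_zero S).2 ⟨1, map_one (algebraMap A'' A)⟩, tmul_zero] at h3
  have h4 : S.mkQ a = 0 := Module.FaithfullyFlat.tensorProduct_mk_injective (A := A'') (B := A) (A ⧸ S)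
    (h3.trans (map_zero _).symm)
  obtain ⟨b, hb⟩ := (Submodule.Quotient.mk_eq_zero S).1 h4
  exact ⟨b, hb⟩

omit [CommRing A''] in
/-- A finite faithfully flat algebra over a Noetherian ring retracts onto it. -/
theorem exists_retraction (C A : Type u) [CommRing C] [CommRing A] [Algebra C A] [IsNoetherianRing C]
    [Module.Finite C A] [Module.FaithfullyFlat C A] : ∃ r : A →ₗ[C] C, r 1 = 1 := by
  classical
  haveI : Module.FinitePresentation C A := Module.finitePresentation_of_finite C A
  haveI : Module.Projective C A := Module.Flat.projective_of_finitePresentation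
  let I : Ideal C := LinearMap.range (LinearMap.applyₗ (1 : A) : (A →ₗ[C] C) →ₗ[C] C)
  suffices hI : I = ⊤ by
    obtain ⟨r, hr⟩ := (hI ▸ Submodule.mem_top : (1 : C) ∈ I)
    exact ⟨r, hr⟩
  by_contra hI
  obtain ⟨p, hp, hIp⟩ := Ideal.exists_le_maximal I hI
  refine Module.FaithfullyFlat.submodule_ne_top (M := A) hp (eq_top_iff.2 fun x _ => ?_)
  obtain ⟨s, hs⟩ := Module.projective_def.1 (inferInstance : Module.Projective C A)
  have h1 : (1 : A) ∈ (p • ⊤ : Submodule C A) := by
    rw [← hs 1, Finsupp.linearCombination_apply, Finsupp.sum]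
    refine sum_mem fun i _ => Submodule.smul_mem_smul (hIp ⟨(Finsupp.lapply i).comp s, rfl⟩) Submodule.mem_top
  have h2 : ∀ y ∈ (p • ⊤ : Submodule C A), x * y ∈ (p • ⊤ : Submodule C A) := fun y hy => by
    refine Submodule.smul_induction_on hy (fun c hc n _ => ?_) fun u v hu hv => by rw [mul_add]; exact add_mem hu hv
    rw [mul_smul_comm]
    exact Submodule.smul_mem_smul hc Submodule.mem_top
  have h3 := h2 1 h1
  rwa [mul_one] at h3

end CartExactLib
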