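import Groth.Agent.FlatLib.FibreLocal
import Mathlib.RingTheory.Flat.Stability
import Mathlib.RingTheory.Flat.Localization
import Mathlib.RingTheory.IntegralClosure.IntegralRestrict
import Mathlib.RingTheory.TensorProduct.Maps

/-!
Flatness of finite algebras from the fibres.
-/

set_option autoImplicit false

noncomputable section

universe u

open TensorProduct

set_option synthInstance.maxHeartbeats 400000

namespace CartExactLib

/-- A tensor product of a flat module with a module flat over a smaller ring. -/
theorem flat_tensor (R S N M : Type u) [CommRing R] [CommRing S] [Algebra R S] [AddCommGroup N] [Module S N]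
    [Module R N] [IsScalarTower R S N] [AddCommGroup M] [Module S M] [Module R M] [IsScalarTower R S M]
    [Module.Flat S N] [Module.Flat R M] : Module.Flat R (N ⊗[S] M) := by
  refine Module.Flat.iff_lTensor_injective.mpr fun a _ => ?_
  let eA := AlgebraTensorModule.assoc R S S N M a
  let eR := AlgebraTensorModule.assoc R S S N M R
  let f : M ⊗[R] a →ₗ[S] M ⊗[R] R := AlgebraTensorModule.lTensor S M (Submodule.subtype (a : Submodule R R))
  have hf : Function.Injective f :=
    Module.Flat.lTensor_preserves_injective_linearMap (Submodule.subtype (a : Submodule R R)) Subtype.val_injective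
  have hcomm : ∀ z : (N ⊗[S] M) ⊗[R] a,
      eR ((Submodule.subtype (a : Submodule R R)).lTensor (N ⊗[S] M) z) = f.lTensor N (eA z) := fun z => by
    induction z using TensorProduct.induction_on with
    | zero => simp
    | add p q hp hq => simp only [map_add, hp, hq]
    | tmul w c =>
      induction w using TensorProduct.induction_on with
      | zero => simp
      | add p q hp hq => simp only [TensorProduct.add_tmul, map_add, hp, hq]
      | tmul n m => simp [eA, eR, f]
  intro x y h
  refine eA.injective (Module.Flat.lTensor_preserves_injective_linearMap f hf ?_)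
  rw [← hcomm, ← hcomm, h]

/-- A finite algebra, flat over the base, with flat fibres is flat. -/
theorem flat_of_fibres (R S S' : Type u) [CommRing R] [IsNoetherianRing R] [CommRing S] [Algebra R S]
    [Module.Finite R S] [CommRing S'] [Algebra R S'] [Algebra S S'] [IsScalarTower R S S'] [Module.Finite R S']
    [Module.Flat R S']
    (h : ∀ (m : Ideal R) [m.IsMaximal], (Algebra.TensorProduct.map (AlgHom.id R (R ⧸ m))
      (IsScalarTower.toAlgHom R S S')).toRingHom.Flat) : Module.Flat S S' := by
  haveI : IsNoetherianRing S := IsNoetherianRing.of_finite R S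
  haveI : Module.Finite S S' := Module.Finite.of_restrictScalars_finite R S S'
  refine Module.flat_of_isLocalized_maximal S S' (fun P _ => Localization.AtPrime P ⊗[S] S')
    (fun P _ => TensorProduct.mk S (Localization.AtPrime P) S' 1) fun n hn => ?_
  let m : Ideal R := n.comap (algebraMap R S)
  haveI hm : m.IsMaximal := Ideal.isMaximal_comap_of_isIntegral_of_isMaximal n
  let Sn := Localization.AtPrime n
  haveI : IsNoetherianRing Sn := IsLocalization.isNoetherianRing n.primeCompl Sn inferInstance
  let I : Ideal Sn := m.map (algebraMap R Sn)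
  have hI : I ≤ IsLocalRing.maximalIdeal Sn := by
    rw [show I = (m.map (algebraMap R S)).map (algebraMap S Sn) by
      rw [Ideal.map_map, ← IsScalarTower.algebraMap_eq]]
    rw [← Localization.AtPrime.map_eq_maximalIdeal]
    exact Ideal.map_mono Ideal.map_comap_le
  haveI : Module.Flat R (Sn ⊗[S] S') := flat_tensor R S Sn S'
  have h1 : Function.Injective (LinearMap.lTensor (Sn ⊗[S] S') I.subtype) :=
    FlatLib.injective_lTensor_map (R := R) (S := Sn) (M := Sn ⊗[S] S') m
  have h2 : Module.Flat (Sn ⧸ I) ((Sn ⧸ I) ⊗[Sn] (Sn ⊗[S] S')) := by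
    let κ := R ⧸ m
    let T := κ ⊗[R] S
    letI : Algebra S T := Algebra.TensorProduct.rightAlgebra
    let mp := Algebra.TensorProduct.map (AlgHom.id R κ) (IsScalarTower.toAlgHom R S S')
    let T' := κ ⊗[R] S'
    letI : Algebra T T' := mp.toRingHom.toAlgebra
    letI : Algebra S T' :=
      ((Algebra.TensorProduct.includeRight : S' →ₐ[R] T').comp (IsScalarTower.toAlgHom R S S')).toRingHom.toAlgebra
    haveI hT : Module.Flat T T' := h m
    let i : κ →ₐ[R] Sn ⧸ I := Ideal.Quotient.liftₐ m (Algebra.ofId R (Sn ⧸ I)) fun a ha => by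
      show algebraMap R (Sn ⧸ I) a = 0
      rw [← Ideal.Quotient.mk_algebraMap, Ideal.Quotient.eq_zero_iff_mem]
      exact Ideal.mem_map_of_mem _ ha
    let F : T →ₐ[R] Sn ⧸ I := Algebra.TensorProduct.lift i (IsScalarTower.toAlgHom R S (Sn ⧸ I)) fun _ _ =>
      Commute.all _ _
    letI : Algebra T (Sn ⧸ I) := F.toRingHom.toAlgebra
    haveI : IsScalarTower S T (Sn ⧸ I) := IsScalarTower.of_algebraMap_eq fun s => by
      show _ = F ((1 : κ) ⊗ₜ[R] s)
      rw [Algebra.TensorProduct.lift_tmul, map_one, one_mul]; rfl
    haveI : IsScalarTower R T T' := IsScalarTower.of_algebraMap_eq fun r => (mp.commutes r).symm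
    let j : S' →ₐ[R] T ⊗[S] S' :=
      (Algebra.TensorProduct.includeRight : S' →ₐ[S] T ⊗[S] S').restrictScalars R
    let b : T' →ₐ[R] T ⊗[S] S' := Algebra.TensorProduct.lift
      ((Algebra.TensorProduct.includeLeft : T →ₐ[R] T ⊗[S] S').comp Algebra.TensorProduct.includeLeft) j
      fun _ _ => Commute.all (S := T ⊗[S] S') _ _
    haveI : IsScalarTower S T T' := IsScalarTower.of_algebraMap_eq fun s => by
      show (1 : κ) ⊗ₜ[R] algebraMap S S' s = mp ((1 : κ) ⊗ₜ[R] s)
      simp [mp]
    let a : T ⊗[S] S' →ₗ[T] T' := AlgebraTensorModule.lift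
      (LinearMap.mk₂' T S (fun t s' => mp t * Algebra.TensorProduct.includeRight s')
        (fun _ _ _ => by rw [map_add, add_mul])
        (fun c t _ => by
          rw [smul_eq_mul, map_mul, mul_assoc]; exact (Algebra.smul_def (A := T') c _).symm)
        (fun _ _ _ => by rw [map_add, mul_add])
        (fun s t s' => by
          rw [Algebra.smul_def, map_mul]
          exact (mul_left_comm _ _ _).trans (Algebra.smul_def (A := T') s _).symm))
    have e1 : ∀ (c : κ) (y : S'), b (c ⊗ₜ[R] y) = ((c ⊗ₜ[R] (1 : S) : T) ⊗ₜ[S] y) := fun c y => by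
      show ((c ⊗ₜ[R] (1 : S) : T) ⊗ₜ[S] (1 : S')) * ((1 : T) ⊗ₜ[S] y) = _
      rw [Algebra.TensorProduct.tmul_mul_tmul, mul_one, one_mul]
    have e2 : ∀ (c : κ) (s : S) (s' : S'), mp (c ⊗ₜ[R] s) * (1 : κ) ⊗ₜ[R] s' = c ⊗ₜ[R] (s • s') := fun c s s' => by
      show (c ⊗ₜ[R] algebraMap S S' s) * _ = _
      rw [Algebra.TensorProduct.tmul_mul_tmul, mul_one, Algebra.smul_def]
    have hba : ∀ z, b (a z) = z := fun z => by
      induction z using TensorProduct.induction_on with
      | zero => rw [map_zero, map_zero]
      | add p q hp hq => rw [map_add, map_add, hp, hq]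
      | tmul t s' =>
        show b (mp t * (1 : κ) ⊗ₜ[R] s') = _
        induction t using TensorProduct.induction_on with
        | zero => rw [map_zero, zero_mul, map_zero, TensorProduct.zero_tmul]
        | add p q hp hq => rw [map_add, add_mul, map_add, hp, hq, TensorProduct.add_tmul]
        | tmul c s =>
          rw [e2, e1, TensorProduct.tmul_smul, TensorProduct.smul_tmul']
          congr 1
          rw [Algebra.smul_def]
          show (1 : κ) ⊗ₜ[R] s * c ⊗ₜ[R] (1 : S) = _
          rw [Algebra.TensorProduct.tmul_mul_tmul, one_mul, mul_one]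
    have hab : ∀ z, ∃ w, a w = z := fun z => by
      induction z using TensorProduct.induction_on with
      | zero => exact ⟨0, map_zero a⟩
      | add p q hp hq =>
        obtain ⟨u, rfl⟩ := hp; obtain ⟨v, rfl⟩ := hq
        exact ⟨u + v, map_add a u v⟩
      | tmul c s' =>
        refine ⟨(c ⊗ₜ[R] (1 : S)) ⊗ₜ[S] s', ?_⟩
        show mp (c ⊗ₜ[R] (1 : S)) * (1 : κ) ⊗ₜ[R] s' = _
        rw [e2, one_smul]
    haveI : Module.Flat T (T ⊗[S] S') :=
      Module.Flat.of_linearEquiv (LinearEquiv.ofBijective a ⟨Function.LeftInverse.injective hba, hab⟩)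
    haveI : Module.Flat (Sn ⧸ I) ((Sn ⧸ I) ⊗[T] (T ⊗[S] S')) := inferInstance
    exact Module.Flat.of_linearEquiv ((AlgebraTensorModule.cancelBaseChange S Sn (Sn ⧸ I) (Sn ⧸ I) S').trans
      (AlgebraTensorModule.cancelBaseChange S T (Sn ⧸ I) (Sn ⧸ I) S').symm)
  haveI : Module.Flat Sn (Sn ⊗[S] S') := FlatCrit.flat_of_injective_of_flat_quotient (S := Sn) I
    (by rw [Algebra.algebraMap_self, Ideal.map_id, IsLocalRing.jacobson_eq_maximalIdeal _ bot_ne_top]; exact hI) h1 h2
  exact Module.Flat.trans S Sn (Sn ⊗[S] S')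

end CartExactLib
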