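import Groth.Prelude.Def_CartDual2
import Groth.Agent.CartExactLib.Coinv
import Groth.Agent.CartExactLib.Fibres
import Groth.Agent.HopfFFLib.Injective
import Mathlib.RingTheory.HopfAlgebra.TensorProduct
import Mathlib.RingTheory.Spectrum.Prime.Topology

/-!
Cartier duality carries short exact sequences to short exact sequences.
-/

set_option autoImplicit false
set_option synthInstance.maxHeartbeats 400000
set_option maxHeartbeats 1000000
set_option backward.isDefEq.respectTransparency false
set_option backward.isDefEq.respectTransparency.types false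
set_option maxRecDepth 8000

noncomputable section

universe u

open TensorProduct WithConv

namespace CartExactLib

variable {R : Type u} [CommRing R] [IsNoetherianRing R]
  {A' A A'' : Type u} [CommRing A'] [HopfAlgebra R A'] [Coalgebra.IsCocomm R A'] [Module.Finite R A']
  [Module.Projective R A'] [CommRing A] [HopfAlgebra R A] [Coalgebra.IsCocomm R A] [Module.Finite R A]
  [Module.Projective R A] [CommRing A''] [HopfAlgebra R A''] [Coalgebra.IsCocomm R A''] [Module.Finite R A'']
  [Module.Projective R A'']

omit [IsNoetherianRing R] [Coalgebra.IsCocomm R A'] [Coalgebra.IsCocomm R A] in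
/-- The transpose of a surjection has a linear left inverse. -/
theorem exists_leftInverse (g : A →ₐc[R] A') (hg : Function.Surjective g) :
    ∃ L : CartDual.D R A →ₗ[R] CartDual.D R A', ∀ x, L (CartDual.transpose R g x) = x := by
  obtain ⟨s, hs⟩ := Module.projective_lifting_property (g : A →ₗ[R] A') LinearMap.id hg
  refine ⟨CartDual.transposeLin R s, fun x => WithConv.ext (LinearMap.ext fun a => ?_)⟩
  show x (g (s a)) = x a
  exact congrArg x.ofConv (LinearMap.congr_fun hs a)

/-- The transpose of a surjection is faithfully flat. -/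
theorem transpose_faithfullyFlat (g : A →ₐc[R] A') (hg : Function.Surjective g) :
    (CartDual.transpose R g : CartDual.D R A' →ₐ[R] CartDual.D R A).toRingHom.FaithfullyFlat := by
  obtain ⟨L, hL⟩ := exists_leftInverse g hg
  set tg : CartDual.D R A' →ₐc[R] CartDual.D R A := CartDual.transpose R g
  letI : Algebra (CartDual.D R A') (CartDual.D R A) := (tg : CartDual.D R A' →ₐ[R] CartDual.D R A).toRingHom.toAlgebra
  haveI : IsScalarTower R (CartDual.D R A') (CartDual.D R A) :=
    IsScalarTower.of_algebraMap_eq fun r => ((tg : CartDual.D R A' →ₐ[R] CartDual.D R A).commutes r).symm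
  have hflat : Module.Flat (CartDual.D R A') (CartDual.D R A) := by
    refine flat_of_fibres R (CartDual.D R A') (CartDual.D R A) fun m hm => ?_
    letI : Field (R ⧸ m) := Ideal.Quotient.field m
    let F : (R ⧸ m) ⊗[R] CartDual.D R A' →ₐc[R ⧸ m] (R ⧸ m) ⊗[R] CartDual.D R A :=
      Bialgebra.TensorProduct.map (BialgHom.id (R ⧸ m) (R ⧸ m)) tg
    have hF : Function.Injective F := by
      refine Function.LeftInverse.injective (g := L.lTensor (R ⧸ m)) fun z => ?_
      induction z using TensorProduct.induction_on with
      | zero => rw [map_zero, map_zero]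
      | add x y hx hy => rw [map_add, map_add, hx, hy]
      | tmul c x => exact congrArg (c ⊗ₜ[R] ·) (hL x)
    exact (Groth.Agent.HopfFF.faithfullyFlat_of_injective (k := R ⧸ m) (A := (R ⧸ m) ⊗[R] CartDual.D R A)
      (B := (R ⧸ m) ⊗[R] CartDual.D R A') F hF).flat
  haveI : Module.Finite (CartDual.D R A') (CartDual.D R A) := Module.Finite.of_restrictScalars_finite R _ _
  rw [RingHom.FaithfullyFlat.iff_flat_and_comap_surjective]
  exact ⟨hflat, RingHom.IsIntegral.comap_surjective (fun x => Algebra.IsIntegral.isIntegral x)
    (Function.LeftInverse.injective hL)⟩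

/-- The transpose of a faithfully flat map is surjective. -/
theorem transpose_surjective (f : A'' →ₐc[R] A) (hf : (f : A'' →ₐ[R] A).toRingHom.FaithfullyFlat) :
    Function.Surjective (CartDual.transpose R f) := by
  letI : Algebra A'' A := (f : A'' →ₐ[R] A).toRingHom.toAlgebra
  haveI : IsScalarTower R A'' A := IsScalarTower.of_algebraMap_eq fun r => ((f : A'' →ₐ[R] A).commutes r).symm
  haveI : Module.FaithfullyFlat A'' A := hf
  haveI : IsNoetherianRing A'' := IsNoetherianRing.of_finite R A''
  haveI : Module.Finite A'' A := Module.Finite.of_restrictScalars_finite R A'' A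
  obtain ⟨r, hr⟩ := exists_retraction A'' A
  intro x
  refine ⟨toConv (x.ofConv ∘ₗ r.restrictScalars R), WithConv.ext (LinearMap.ext fun b => ?_)⟩
  show x (r (f b)) = x b
  refine congrArg x.ofConv ?_
  have h : r (b • (1 : A)) = b • r 1 := map_smul r b 1
  rwa [hr, smul_eq_mul, mul_one, Algebra.smul_def, mul_one] at h

/-- Membership in the ideal generated by an augmentation ideal is detected by invariant functionals. -/
theorem mem_map_ker_of_forall {S D : Type u} [CommRing S] [Algebra R S] [CommRing D] [Algebra R D] [Module.Finite R D]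
    (t : S →ₐ[R] D) (ht : t.toRingHom.Flat) (ε : S →ₐ[R] R) {x : D}
    (h : ∀ Λ : D →ₗ[R] R, (∀ y z, Λ (t y * z) = ε y * Λ z) → Λ x = 0) :
    x ∈ Ideal.map t (RingHom.ker ε) := by
  letI : Algebra S D := t.toRingHom.toAlgebra
  haveI : IsScalarTower R S D := IsScalarTower.of_algebraMap_eq fun r => (t.commutes r).symm
  haveI : Module.Flat S D := ht
  haveI : Module.Finite S D := Module.Finite.of_restrictScalars_finite R S D
  letI : Algebra S R := ε.toRingHom.toAlgebra
  haveI : IsScalarTower R S R := IsScalarTower.of_algebraMap_eq fun r => (ε.commutes r).symm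
  let T := R ⊗[S] D
  haveI : Module.FinitePresentation R T := Module.finitePresentation_of_finite R T
  haveI : Module.Projective R T := Module.Flat.projective_of_finitePresentation
  let e : D →ₗ[R] T :=
    { toFun := fun z => (1 : R) ⊗ₜ[S] z
      map_add' := fun _ _ => TensorProduct.tmul_add _ _ _
      map_smul' := fun r z => by
        show (1 : R) ⊗ₜ[S] (r • z) = r • ((1 : R) ⊗ₜ[S] z)
        rw [← algebraMap_smul S r z, TensorProduct.tmul_smul, TensorProduct.smul_tmul',
          algebraMap_smul, TensorProduct.smul_tmul'] }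
  have hT : e x = 0 := (Module.forall_dual_apply_eq_zero_iff R (e x)).1 fun φ => h (φ ∘ₗ e) fun y z => by
    have e2 : e (t y * z) = ε y • e z := by
      show (1 : R) ⊗ₜ[S] (y • z) = ε y • ((1 : R) ⊗ₜ[S] z)
      rw [TensorProduct.tmul_smul, TensorProduct.smul_tmul', TensorProduct.smul_tmul', Algebra.smul_def]
      rfl
    show φ (e (t y * z)) = ε y * φ (e z)
    rw [e2, map_smul, smul_eq_mul]
  let K : Ideal D := Ideal.map t (RingHom.ker ε)
  let b2 : R →ₗ[S] D →ₗ[S] D ⧸ K :=
    LinearMap.mk₂ S (fun r z => Ideal.Quotient.mk K (algebraMap R D r * z))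
      (fun r r' z => by rw [map_add, add_mul, map_add])
      (fun s r z => by
        rw [Algebra.smul_def, Algebra.smul_def]
        simp only [map_mul, mul_assoc]
        refine congrArg (· * _) ?_
        show Ideal.Quotient.mk K (algebraMap R D (ε s)) = Ideal.Quotient.mk K (t s)
        refine (Ideal.Quotient.mk_eq_mk_iff_sub_mem _ _).2 ?_
        rw [← t.commutes, ← map_sub]
        refine Ideal.mem_map_of_mem _ ((RingHom.mem_ker).2 ?_)
        rw [map_sub, AlgHom.commutes, Algebra.algebraMap_self, RingHom.id_apply, sub_self])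
      (fun r z z' => by rw [mul_add, map_add])
      (fun s r z => by rw [mul_smul_comm]; rfl)
  have h0 := congrArg (TensorProduct.lift b2) hT
  rw [map_zero] at h0
  show x ∈ K
  rw [← Ideal.Quotient.eq_zero_iff_mem, ← h0]
  show _ = Ideal.Quotient.mk K (algebraMap R D 1 * x)
  rw [map_one, one_mul]

/-- Exactness in the middle of the dual sequence. -/
theorem transpose_ker (f : A'' →ₐc[R] A) (hf : (f : A'' →ₐ[R] A).toRingHom.FaithfullyFlat)
    (g : A →ₐc[R] A') (hg : Function.Surjective g)
    (hker : RingHom.ker (g : A →ₐ[R] A') = Ideal.map (f : A'' →ₐ[R] A) (RingHom.ker (Bialgebra.counitAlgHom R A''))) :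
    RingHom.ker (CartDual.transpose R f : CartDual.D R A →ₐ[R] CartDual.D R A'') =
      Ideal.map (CartDual.transpose R g : CartDual.D R A' →ₐ[R] CartDual.D R A)
        (RingHom.ker (Bialgebra.counitAlgHom R (CartDual.D R A'))) := by
  have hgf : ∀ b, g (f b) = algebraMap R A' (Bialgebra.counitAlgHom R A'' b) := fun b => by
    have h : f (b - algebraMap R A'' (Bialgebra.counitAlgHom R A'' b)) ∈ RingHom.ker (g : A →ₐ[R] A') := by
      rw [hker]
      refine Ideal.mem_map_of_mem (f : A'' →ₐ[R] A) ((RingHom.mem_ker).2 ?_)
      rw [map_sub, AlgHom.commutes, Algebra.algebraMap_self, RingHom.id_apply, sub_self]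
    have h' : g (f (b - algebraMap R A'' (Bialgebra.counitAlgHom R A'' b))) = 0 := h
    rw [map_sub, map_sub] at h'
    rw [sub_eq_zero.1 h']
    exact ((g : A →ₐ[R] A').comp (f : A'' →ₐ[R] A)).commutes _
  have hff := transpose_faithfullyFlat g hg
  set tg : CartDual.D R A' →ₐc[R] CartDual.D R A := CartDual.transpose R g with htg
  refine le_antisymm (fun x hx => ?_) (Ideal.map_le_iff_le_comap.2 fun y hy => ?_)
  swap
  · refine (RingHom.mem_ker).2 (WithConv.ext (LinearMap.ext fun b => ?_))
    show y (g (f b)) = 0
    rw [hgf, Algebra.algebraMap_eq_smul_one]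
    refine ((y : CartDual.D R A').ofConv.map_smul _ _).trans ?_
    rw [show y.ofConv (1 : A') = 0 from hy, smul_zero]
  · refine mem_map_ker_of_forall (tg : CartDual.D R A' →ₐ[R] CartDual.D R A) hff.flat
      (Bialgebra.counitAlgHom R (CartDual.D R A')) fun Λ hΛ => ?_
    let Λ' : Module.Dual R (Module.Dual R A) := Λ ∘ₗ (CartDual.toDual R A).symm.toLinearMap
    let a : A := (Module.evalEquiv R A).symm Λ'
    have ha : ∀ z : CartDual.D R A, z a = Λ z := fun z =>
      (Module.apply_evalEquiv_symm_apply R A z.ofConv Λ').trans rfl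
    have hcoinv : Algebra.TensorProduct.map (g : A →ₐ[R] A') (AlgHom.id R A) (Coalgebra.comul (R := R) a) =
        (1 : A') ⊗ₜ[R] a := by
      refine sub_eq_zero.1 ((Module.forall_dual_apply_eq_zero_iff R _).1 fun ψ => ?_)
      obtain ⟨w, rfl⟩ := (CartDual.dualTensorEquiv R A' A).surjective ψ
      rw [map_sub, sub_eq_zero]
      induction w using TensorProduct.induction_on with
      | zero => simp
      | add p q hp hq => simp only [map_add, LinearMap.add_apply, hp, hq]
      | tmul y z =>
        rw [CartDual.dualTensorEquiv_tmul]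
        have e1 : ∀ t : A ⊗[R] A, CartDual.dualTensorEquiv R A' A (y ⊗ₜ[R] z)
            (Algebra.TensorProduct.map (g : A →ₐ[R] A') (AlgHom.id R A) t) =
            LinearMap.mul' R R (TensorProduct.map (tg (toConv y)).ofConv z t) := fun t => by
          induction t using TensorProduct.induction_on with
          | zero => simp
          | add p q hp hq => simp only [map_add, hp, hq]
          | tmul p q => exact CartDual.dualTensorEquiv_tmul R A' A y z (g p) q
        refine (e1 _).trans ?_
        show (tg (toConv y) * toConv z) a = _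
        rw [ha]
        refine (hΛ (toConv y) (toConv z)).trans ?_
        rw [← ha]
        rfl
    obtain ⟨b, hb⟩ := mem_range_of_coinv f hf g hg hker hcoinv
    rw [← ha, ← hb]
    exact congrArg (fun w : CartDual.D R A'' => w b) ((RingHom.mem_ker).1 hx)

end CartExactLib
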